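import Groth.Agent.L10.TowerStab
import Groth.Agent.L27.ExtZero.Cont
import Groth.Agent.L27.ExtZero.Exact
import Groth.Agent.L27.ExtZero.Restr
import Groth.Agent.L27.EtSite.Points
import Groth.Agent.L27.EtSite.Pull
import Groth.Agent.L27.Hom.ExtAdj
import Groth.Prelude.Def_EtCore
import Mathlib.CategoryTheory.Abelian.GrothendieckAxioms.Sheaf
import Mathlib.CategoryTheory.Sites.LocallyBijective

/-!
# Test objects of the small etale site: extensions by zero of constant sheaves from affine schemes
-/

set_option autoImplicit false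
set_option backward.defeqAttrib.useBackward true
set_option backward.isDefEq.respectTransparency false
set_option backward.isDefEq.respectTransparency.types false
set_option linter.style.haveILetI false

universe u

open CategoryTheory CategoryTheory.Limits AlgebraicGeometry Opposite

noncomputable section

namespace Groth.L27.Punctual

variable {X : Scheme.{u}}

/-- Morphisms out of the constant sheaf of the integers are global sections. -/
def constHom (Y : Scheme.{u}) (F : EtCoh.Ab Y) :
    (EtCoh.const Y ℤ ⟶ F) ≃ EtCoh.sect F (EtCoh.top Y) :=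
  ((constantSheafAdj Y.smallEtaleTopology AddCommGrpCat.{u + 1} (EtCore.topIsTerminal Y)).homEquiv
    (AddCommGrpCat.of (ULift.{u + 1} ℤ)) F).trans
    (AddCommGrpCat.uliftZMultiplesAddEquiv _).toEquiv

theorem constHom_comp (Y : Scheme.{u}) {F G : EtCoh.Ab Y} (x : EtCoh.const Y ℤ ⟶ F) (φ : F ⟶ G) :
    constHom Y G (x ≫ φ) = φ.hom.app _ (constHom Y F x) := by
  simp only [constHom, Equiv.trans_apply]
  rw [Adjunction.homEquiv_naturality_right]
  rfl

variable (W : X.Etale)

/-- The etale structure morphism. -/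
abbrev hm (W : X.Etale) : W.left ⟶ X := W.hom

instance etale_hm : Etale (hm W) := W.prop

/-- The test object of an etale scheme. -/
abbrev tst : EtCoh.Ab X :=
  haveI := Groth.L27.ExtZero.jCont (hm W)
  (EtShriek.extZero (hm W)).obj (EtCoh.const W.left ℤ)

/-- The tautological map from the image of the final object. -/
abbrev topMap : (EtShriek.compEtale (hm W)).obj (EtCoh.top W.left) ⟶ W :=
  MorphismProperty.Over.homMk (𝟙 W.left) rfl

instance isIso_topMap : IsIso (topMap W) :=
  ⟨MorphismProperty.Over.homMk (𝟙 W.left) (by simp), MorphismProperty.Over.Hom.ext (Category.id_comp _),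
    MorphismProperty.Over.Hom.ext (Category.id_comp _)⟩

/-- Morphisms out of a test object are sections. -/
def tstHom (M : EtCoh.Ab X) : (tst W ⟶ M) ≃ EtCoh.sect M W :=
  haveI := Groth.L27.ExtZero.jCont (hm W)
  (((EtShriek.extZeroAdj (hm W)).homEquiv _ M).trans (constHom W.left _)).trans
    (M.obj.mapIso (asIso (topMap W)).symm.op).addCommGroupIsoToAddEquiv.toEquiv

theorem tstHom_comp {M N : EtCoh.Ab X} (x : tst W ⟶ M) (φ : M ⟶ N) :
    tstHom W N (x ≫ φ) = φ.hom.app (op W) (tstHom W M x) := by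
  haveI := Groth.L27.ExtZero.jCont (hm W)
  simp only [tstHom, Equiv.trans_apply]
  rw [Adjunction.homEquiv_naturality_right, constHom_comp]
  exact (congr($(φ.hom.naturality (asIso (topMap W)).symm.op.hom) _)).symm

theorem eq_zero_of_locally (M : EtCoh.Ab X) {V : X.Etale} (S : Sieve V) (hS : S ∈ X.smallEtaleTopology V)
    (x : EtCoh.sect M V) (h : ∀ ⦃W : X.Etale⦄ (g : W ⟶ V), S g → M.obj.map g.op x = 0) : x = 0 :=
  (((isSheaf_iff_isSheaf_of_type _ _).1 ((sheafCompose _ (forget AddCommGrpCat.{u + 1})).obj M).property) S hS).isSeparatedFor.ext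
    fun _ g hg => (h g hg).trans (map_zero (M.obj.map g.op).hom).symm

/-- Etale schemes over `X` with affine total space. -/
abbrev Aff (X : Scheme.{u}) : Type (u + 1) := {W : X.Etale // IsAffine W.left}

theorem exists_affine_cover (V : X.Etale) :
    ∃ S : Sieve V, S ∈ X.smallEtaleTopology V ∧ ∀ ⦃Z : X.Etale⦄ (g : Z ⟶ V), S g →
      ∃ (A : Aff X) (a : A.1 ⟶ V) (b : Z ⟶ A.1), b ≫ a = g := by
  let P : Presieve V := fun Z _ => IsAffine Z.left
  refine ⟨Sieve.generate P, ?_, fun Z g hg => ?_⟩
  · refine (Groth.L27.EtSite.mem_topology_iff _).2 fun v => ?_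
    obtain ⟨_, ⟨(O : V.left.Opens), hO, rfl⟩, hvO, -⟩ := V.left.isBasis_affineOpens.exists_subset_of_mem_open (Set.mem_univ v) isOpen_univ
    let Z : X.Etale := Scheme.Etale.mk (O.ι ≫ hm V)
    exact ⟨Z, MorphismProperty.Over.homMk O.ι rfl, ⟨v, hvO⟩, ⟨Z, 𝟙 _, _, hO, Category.id_comp _⟩, rfl⟩
  · obtain ⟨A, b, a, hA, e⟩ := hg
    exact ⟨⟨A, hA⟩, a, b, e⟩

/-- The cover datum of affine etale schemes. -/
def cover (X : Scheme.{u}) : Groth.L10.LocalDetect.Cover (EtCoh.Ab X) (Aff X) where
  P A := tst A.1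
  good _ Q := ∃ A : Aff X, Q = tst A.1
  sep M N φ h := by
    refine Sheaf.hom_ext (NatTrans.ext (funext fun V => AddCommGrpCat.hom_ext (AddMonoidHom.ext fun s => ?_)))
    obtain ⟨S, hS, hfac⟩ := exists_affine_cover V.unop
    refine eq_zero_of_locally N S hS _ fun Z g hg => ?_
    obtain ⟨A, a, b, rfl⟩ := hfac g hg
    have h1 := congrArg (tstHom A.1 N) (h A ((tstHom A.1 M).symm (M.obj.map a.op s)))
    rw [tstHom_comp, Equiv.apply_symm_apply] at h1
    have h0 : tstHom A.1 N 0 = 0 := by
      rw [← comp_zero (f := (0 : tst A.1 ⟶ M)) (Z := N), tstHom_comp]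
      rfl
    rw [h0] at h1
    have h3 : N.obj.map a.op (φ.hom.app V s) = 0 := (congr($(φ.hom.naturality a.op) s)).symm.trans h1
    rw [op_comp, Functor.map_comp]
    exact (congrArg (N.obj.map b.op) h3).trans (map_zero (N.obj.map b.op).hom)
  cov A T p _ N b h := by
    haveI : Sheaf.IsLocallySurjective p := (Sheaf.isLocallySurjective_iff_epi' _ p).2 inferInstance
    let univ : EtCoh.sect (tst A.1) A.1 := tstHom A.1 _ (𝟙 _)
    apply (tstHom A.1 N).injective
    have h0 : tstHom A.1 N 0 = 0 := by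
      rw [← comp_zero (f := (0 : tst A.1 ⟶ tst A.1)) (Z := N), tstHom_comp]
      rfl
    rw [h0, ← Category.id_comp b, tstHom_comp]
    refine eq_zero_of_locally N _ (Presheaf.imageSieve_mem X.smallEtaleTopology p.hom univ) _ fun Z g hg => ?_
    obtain ⟨t, ht⟩ := hg
    obtain ⟨S, hS, hfac⟩ := exists_affine_cover Z
    refine eq_zero_of_locally N S hS _ fun Z' g' hg' => ?_
    obtain ⟨A', a, c, rfl⟩ := hfac g' hg'
    have h1 := congrArg (tstHom A'.1 N) (h (tst A'.1) ((tstHom A'.1 T).symm (T.obj.map a.op t)) ⟨A', rfl⟩)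
    rw [tstHom_comp, Equiv.apply_symm_apply] at h1
    have h0' : tstHom A'.1 N 0 = 0 := by
      rw [← comp_zero (f := (0 : tst A'.1 ⟶ T)) (Z := N), tstHom_comp]
      rfl
    rw [h0'] at h1
    have e2 : p.hom.app (op A'.1) (T.obj.map a.op t) = (tst A.1).obj.map a.op ((tst A.1).obj.map g.op univ) :=
      (congr($(p.hom.naturality a.op) t)).trans (congrArg _ ht)
    have e3 : b.hom.app (op A'.1) (p.hom.app (op A'.1) (T.obj.map a.op t)) = 0 := h1
    rw [e2] at e3
    have e4 : N.obj.map a.op (N.obj.map g.op (b.hom.app (op A.1) univ)) = 0 := by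
      rw [← e3]
      exact (congrArg (N.obj.map a.op) (congr($(b.hom.naturality g.op) univ)).symm).trans
        (congr($(b.hom.naturality a.op) ((tst A.1).obj.map g.op univ))).symm
    rw [op_comp, Functor.map_comp]
    exact (congrArg (N.obj.map c.op) e4).trans (map_zero (N.obj.map c.op).hom)

end Groth.L27.Punctual

end
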