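import Groth.Agent.L27.Punctual.Small
import Groth.Agent.L27.EtSite.SepClosedPoint
import Groth.Agent.L29.DCoh.QRlim
import Groth.Agent.L10.HomotopyProd
import Groth.Prelude.Def_DCoh2

/-!
# Complexes with punctual cohomology sheaves are detected by their cohomology
-/

set_option autoImplicit false
set_option backward.defeqAttrib.useBackward true
set_option backward.isDefEq.respectTransparency false
set_option backward.isDefEq.respectTransparency.types false
set_option linter.style.haveILetI false
set_option linter.unusedSectionVars false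

universe u

open CategoryTheory CategoryTheory.Limits AlgebraicGeometry Opposite DerivedCategory
open scoped ZeroObject

noncomputable section

attribute [local instance] HasDerivedCategory.standard

namespace Groth.L27.Punctual

/-- A sheaf on a separably closed point without global sections is zero. -/
theorem isZero_of_sect_top (L : Type u) [Field L] [IsSepClosed L] (G : EtCoh.Ab (Spec (CommRingCat.of L)))
    (h : Subsingleton (EtCoh.sect G (EtCoh.top _))) : IsZero G := by
  haveI := Groth.L27.SepClosedPoint.isSepClosed_residueField L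
  let z : (0 : EtCoh.Ab (Spec (CommRingCat.of L))) ⟶ G := 0
  haveI : Sheaf.IsLocallySurjective z := Groth.L27.EtSite.isLocallySurjective_of_some_stalks z.hom fun x =>
    ⟨IsLocalRing.ResidueField L, inferInstance, inferInstance, Groth.L27.EtSite.closedPt L,
      Subsingleton.elim (α := PrimeSpectrum L) _ _, fun q => ⟨0, by
        obtain ⟨t, rfl⟩ := (Groth.L27.EtSite.bijective_toPresheafFiber L G.obj).2 q
        rw [Subsingleton.elim (α := EtCoh.sect G (EtCoh.top _)) t 0, map_zero, map_zero]⟩⟩
  haveI : Epi z := (Sheaf.isLocallySurjective_iff_epi' _ z).1 inferInstance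
  exact IsZero.of_epi z (isZero_zero _)

variable {X : Scheme.{u}} {K : Type u} [Field K] [IsSepClosed K] (a : X ⟶ Spec (CommRingCat.of K))
  [LocallyOfFiniteType a] [QuasiCompact a]

include a in
/-- A punctual sheaf without global sections is zero. -/
theorem isZero_of_punctual (F : EtCoh.Ab X) (hs : ∀ y ∈ EtPBC.supp F, IsClosed ({y} : Set X))
    (h : ∀ φ : EtCoh.const X ℤ ⟶ F, φ = 0) : IsZero F := by
  haveI : IsLocallyNoetherian X := LocallyOfFiniteType.isLocallyNoetherian a
  have hF : Subsingleton (EtCoh.sect F (EtCoh.top X)) := ⟨fun s t => (constHom X F).symm.injective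
    ((h _).trans (h _).symm)⟩
  refine (Groth.L27.EtSite.isZero_iff_stalks F).2 fun Ω _ _ ξ => ?_
  by_cases hx : IsClosed ({ξ.base default} : Set X)
  · generalize hx' : ξ.base default = x at hx
    subst hx'
    let G := (Groth.L28.CurveCd.sec hx).obj F
    have hG : IsZero G := by
      let i := X.fromSpecResidueField (ξ.base default)
      haveI : IsClosedImmersion i := isClosed_singleton_iff_isClosedImmersion.1 hx
      haveI : UniversallyInjective i := inferInstance
      haveI := Groth.L27.EtSite.preservesFiniteLimits_pull i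
      haveI := Groth.L28.CurveCd.isSepClosed_residueField a (ξ.base default) hx
      haveI hiso : IsIso ((EtCoh.pullPushAdj i).unit.app G) :=
        (Groth.L27.EtSite.isIso_unit_iff i (Groth.L27.EtSite.propA_of_isIntegralHom i) G).2
          ((Groth.L28.CurveCd.supp_sec hx F).trans (X.range_fromSpecResidueField (ξ.base default)).ge)
      let P := (EtCoh.pull i).obj G
      have hG0 : Subsingleton (EtCoh.sect G (EtCoh.top X)) := by
        haveI : Mono ((sheafToPresheaf _ _).map (Groth.L28.CurveCd.incl hx F)) := inferInstance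
        haveI : Mono ((Groth.L28.CurveCd.incl hx F).hom.app (op (EtCoh.top X))) :=
          (NatTrans.mono_iff_mono_app _).1 ‹_› _
        exact ((AddCommGrpCat.mono_iff_injective _).1 this).subsingleton
      have hP1 : Subsingleton (EtCoh.sect P ((EtCoh.bc i).obj (EtCoh.top X))) := by
        let e := ((sheafSections X.smallEtaleTopology AddCommGrpCat.{u + 1}).obj (op (EtCoh.top X))).mapIso
          (asIso ((EtCoh.pullPushAdj i).unit.app G))
        exact @Equiv.subsingleton _ _ e.symm.addCommGroupIsoToAddEquiv.toEquiv hG0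
      let m : (EtCoh.bc i).obj (EtCoh.top X) ⟶ EtCoh.top _ := (EtCore.topIsTerminal _).from _
      let n : EtCoh.top (Spec (CommRingCat.of (X.residueField (ξ.base default)))) ⟶
          (EtCoh.bc i).obj (EtCoh.top X) :=
        MorphismProperty.Over.homMk (pullback.lift i (𝟙 _) (by simp)) (pullback.lift_snd _ _ _)
      have hmn : n ≫ m = 𝟙 _ := (EtCore.topIsTerminal _).hom_ext _ _
      have hP : IsZero P := @isZero_of_sect_top (X.residueField (ξ.base default)) _
        (Groth.L28.CurveCd.isSepClosed_residueField a (ξ.base default) hx) P ⟨fun s t => by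
        have he : ∀ s, P.obj.map n.op (P.obj.map m.op s) = s := fun s => by
          exact congr($((P.obj.map_comp m.op n.op).symm.trans
            ((congrArg P.obj.map (congrArg Quiver.Hom.op hmn)).trans (P.obj.map_id _))) s)
        rw [← he s, ← he t, Subsingleton.elim (P.obj.map m.op s) (P.obj.map m.op t)]⟩
      exact ((EtCoh.push i).map_isZero hP).of_iso (asIso ((EtCoh.pullPushAdj i).unit.app G))
    refine @AddCommGrpCat.isZero_of_subsingleton _ (subsingleton_of_forall_eq 0 fun z => ?_)
    obtain ⟨w, rfl⟩ := Groth.L28.CurveCd.exists_germ_lift F hs ξ hx z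
    rw [@Subsingleton.elim _ (AddCommGrpCat.subsingleton_of_isZero ((EtCoh.stalk ξ).map_isZero hG)) w 0, map_zero]
  · exact not_not.1 fun hn =>
      hx (hs _ ⟨Ω, inferInstance, inferInstance, ξ, Groth.L28.Spz.range_eq_singleton ξ rfl, hn⟩)

include a in
/-- A complex with punctual cohomology sheaves and without cohomology is zero. -/
theorem isZero_of_subsingleton (Q : DCoh.DEt X)
    (hQ : ∀ (i : ℤ), ∀ y ∈ EtPBC.supp (DCoh.HDEt Q i), IsClosed ({y} : Set X))
    (h : ∀ i : ℤ, Subsingleton
      ((singleFunctor (EtCoh.Ab X) 0).obj (EtCoh.const X ℤ) ⟶ (shiftFunctor (DCoh.DEt X) i).obj Q)) :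
    IsZero Q := by
  suffices hz : ∀ i : ℤ, IsZero (DCoh.HDEt Q i) by
    have : IsIso (0 : Q ⟶ 0) := (DerivedCategory.isIso_iff _ _).2 fun n =>
      ⟨0, (hz n).eq_of_src _ _, (((homologyFunctor _ n).map_isZero (isZero_zero _))).eq_of_src _ _⟩
    exact (isZero_zero _).of_iso (asIso (0 : Q ⟶ 0))
  intro i
  let Y := (shiftFunctor (DCoh.DEt X) i).obj Q
  have hsupp : ∀ p : ℤ, ∀ y ∈ EtPBC.supp ((homologyFunctor (EtCoh.Ab X) p).obj Y),
      IsClosed ({y} : Set X) := by
    rintro p y ⟨Ω, _, _, ξ, hξ, hne⟩
    exact hQ (i + p) y ⟨Ω, inferInstance, inferInstance, ξ, hξ, fun h0 =>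
      hne (h0.of_iso ((EtCoh.stalk ξ).mapIso (Groth.L10.hShiftIso Q i p (i + p) rfl)))⟩
  haveI : HasProductsOfShape ℕ (EtCoh.Ab X) := inferInstance
  haveI : HasProductsOfShape ℕ (DCoh.DEt X) := Groth.L10.DerivedProd.hasProductsOfShape
  have hR := Groth.L10.TowerStab.isRlimVia_truncGE (X := Y) (𝒞 := cover X) (fun A => ⟨0, by
    rintro _ ⟨B, rfl⟩ p
    exact small_tst a B _ (hsupp p)⟩)
  have hb := Groth.L29.DC.QRlim.bijective_cls hR (EtCoh.const X ℤ) fun p => small_const a _ (hsupp p)
  have h0 : ∀ φ : EtCoh.const X ℤ ⟶ (homologyFunctor (EtCoh.Ab X) 0).obj Y, φ = 0 := fun φ => by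
    obtain ⟨x, hx⟩ := hb.surjective φ
    obtain ⟨x', hx'⟩ := hb.surjective 0
    haveI := h i
    rw [← hx, ← hx', Subsingleton.elim x x']
  exact (isZero_of_punctual a _ (hsupp 0) h0).of_iso
    (Groth.L10.hShiftIso Q i 0 i (add_zero i)).symm

end Groth.L27.Punctual

end
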