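import Groth.Agent.L27.Punctual.Cover
import Groth.Agent.L28.CurveCd.Decomp

/-!
# Sheaves supported at closed points have no higher cohomology on affine etale schemes
-/

set_option autoImplicit false
set_option backward.defeqAttrib.useBackward true
set_option backward.isDefEq.respectTransparency false
set_option backward.isDefEq.respectTransparency.types false
set_option linter.style.haveILetI false

universe u

open CategoryTheory CategoryTheory.Limits AlgebraicGeometry Opposite CategoryTheory.Abelian DerivedCategory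

noncomputable section

attribute [local instance] HasDerivedCategory.standard

namespace Groth.L27.Punctual

theorem isZero_rightDerived_of_exact {C : Type*} [Category C] [Abelian C] {D : Type*} [Category D] [Abelian D]
    [EnoughInjectives C] (R : C ⥤ D) [R.Additive] [R.PreservesHomology] (F : C) (q : ℕ) (hq : 0 < q) :
    IsZero ((R.rightDerived q).obj F) := by
  let I := InjectiveResolution.of F
  refine IsZero.of_iso ?_ (I.isoRightDerivedObj R q)
  obtain ⟨q, rfl⟩ := Nat.exists_eq_succ_of_ne_zero hq.ne'
  rw [HomologicalComplex.homologyFunctor_obj, ← HomologicalComplex.exactAt_iff_isZero_homology]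
  exact (I.cocomplex_exactAt_succ q).map R

variable {X : Scheme.{u}}

theorem small_of_subsingleton (Q M : EtCoh.Ab X) (h : ∀ p : ℕ, Subsingleton (Ext.{u + 1} Q M (p + 1))) :
    Groth.L10.TowerStab.Small 0 Q M := fun m hm g => by
  obtain ⟨q, rfl⟩ : ∃ q : ℕ, ((q + 1 : ℕ) : ℤ) = m := ⟨m.toNat - 1, by omega⟩
  haveI := h q
  have h2 := (Ext.homEquiv (X := Q) (Y := M) (n := q + 1)).symm.subsingleton
  exact h2.elim g 0

variable {K : Type u} [Field K] [IsSepClosed K] (a : X ⟶ Spec (CommRingCat.of K))
  [LocallyOfFiniteType a] [QuasiCompact a]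

include a in
theorem small_const (F : EtCoh.Ab X) (hs : ∀ y ∈ EtPBC.supp F, IsClosed ({y} : Set X)) :
    Groth.L10.TowerStab.Small 0 (EtCoh.const X ℤ) F :=
  small_of_subsingleton _ _ fun p => Groth.L28.CurveCd.subsingleton_H_of_supp_closed a F hs p

include a in
theorem small_tst (A : Aff X) (F : EtCoh.Ab X) (hs : ∀ y ∈ EtPBC.supp F, IsClosed ({y} : Set X)) :
    Groth.L10.TowerStab.Small 0 (tst A.1) F := by
  refine small_of_subsingleton _ _ fun p => ?_
  haveI : IsAffine A.1.left := A.2
  haveI : IsLocallyNoetherian X := LocallyOfFiniteType.isLocallyNoetherian a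
  let j := hm A.1
  haveI := Groth.L27.ExtZero.jCont j
  haveI := Groth.L27.ExtZero.preservesFiniteLimits_extZero j
  haveI := Groth.L27.EtSite.preservesFiniteLimits_pull j
  haveI : PreservesFiniteLimits (EtShriek.restrAlong j) :=
    preservesFiniteLimits_of_natIso (Groth.L27.ExtZero.pullRestr j)
  haveI : (EtCoh.pull j).IsLeftAdjoint := (EtCoh.pullPushAdj j).isLeftAdjoint
  haveI : PreservesFiniteColimits (EtShriek.restrAlong j) :=
    preservesFiniteColimits_of_natIso (Groth.L27.ExtZero.pullRestr j)
  haveI : (EtShriek.restrAlong j).PreservesHomology := inferInstance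
  haveI : QuasiCompact (j ≫ a) := by
    haveI : CompactSpace ↥A.1.left := inferInstance
    rw [HasAffineProperty.iff_of_isAffine (P := @QuasiCompact)]
    exact inferInstance
  have hs' : ∀ y ∈ EtPBC.supp ((EtShriek.restrAlong j).obj F), IsClosed ({y} : Set A.1.left) := by
    rintro y ⟨Ω, _, _, ξ, hξ, hne⟩
    refine Groth.L28.CurveCd.isClosed_fiber_point (U := A.1) y (hs _ ⟨Ω, inferInstance, inferInstance, ξ ≫ j,
      Groth.L28.Spz.range_eq_singleton (ξ ≫ j) ?_, fun h0 => hne ?_⟩)
    · exact (Scheme.Hom.comp_apply _ _ _).trans (congrArg j (hξ.subset ⟨default, rfl⟩))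
    · exact (h0.of_iso ((Groth.L27.EtSite.stalkPullIso j ξ).app F)).of_iso
        ((EtCoh.stalk ξ).mapIso ((Groth.L27.ExtZero.pullRestr j).app F).symm)
  haveI : Subsingleton (Ext.{u + 1} (EtCoh.const A.1.left ℤ) ((EtShriek.restrAlong j).obj F) (p + 1)) :=
    Groth.L28.CurveCd.subsingleton_H_of_supp_closed (j ≫ a) _ hs' p
  exact (Groth.L27.ExtAdj.bijective_phi.{u + 1, u + 1} (EtShriek.extZeroAdj j) (A := EtCoh.const A.1.left ℤ)
    (p + 1) F (fun q hq => isZero_rightDerived_of_exact _ F q hq)).surjective.subsingleton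

end Groth.L27.Punctual

end
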